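import Cfsg.Agent.TO.X5E.Core
import Cfsg.Agent.TO.X7.Lat

/-!
# S4817, `E₈`, `p = 5` : the plane of type `A₄ A₄` in the lattice (helper36)
-/

set_option autoImplicit false
set_option linter.unusedSectionVars false
set_option maxRecDepth 100000
set_option synthInstance.maxSize 4000
set_option synthInstance.maxHeartbeats 400000

namespace Cfsg.Agent.TO.X5E

open Cfsg Cfsg.Lie Matrix
open Cfsg.Agent.ChevalleyStructure.CoxeterGeomTypes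
open Cfsg.Agent.Tits.Roots Cfsg.Agent.Nodes Cfsg.Agent.Nodes.RGDChev Cfsg.Agent.KZ.DatX Cfsg.Agent.KZ.Exc
open Cfsg.Agent.TO.X Cfsg.Agent.TO.X.Lat
open Cfsg.Agent.TO.X7 (nz)

/-- the first vector -/
def u0 : Fin 8 → ZMod 5 := ![0, 0, 0, 0, 1, 0, 0, 0]

/-- the second vector -/
def x0 : Fin 8 → ZMod 5 := ![1, 1, 1, 1, 0, 1, 1, 1]

/-- the Cartan matrix -/
def Cm : Matrix (Fin 8) (Fin 8) ℤ :=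
  !![2, 0, -1, 0, 0, 0, 0, 0; 0, 2, 0, -1, 0, 0, 0, 0; -1, 0, 2, -1, 0, 0, 0, 0; 0, -1, -1, 2, -1, 0, 0, 0;
      0, 0, 0, -1, 2, -1, 0, 0; 0, 0, 0, 0, -1, 2, -1, 0; 0, 0, 0, 0, 0, -1, 2, -1; 0, 0, 0, 0, 0, 0, -1, 2]

/-- the form on the root lattice -/
def ip (a b : Fin 8 → ℤ) : ℤ :=
  (2 * a 0 - a 2) * b 0 + (2 * a 1 - a 3) * b 1 + (2 * a 2 - a 0 - a 3) * b 2 + (2 * a 3 - a 1 - a 2 - a 4) * b 3 +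
    (2 * a 4 - a 3 - a 5) * b 4 + (2 * a 5 - a 4 - a 6) * b 5 + (2 * a 6 - a 5 - a 7) * b 6 + (2 * a 7 - a 6) * b 7

/-- the roots with the values `0, 1` -/
def K1 : List (Fin 8 → ℤ) :=
  [![-2, -3, -4, -6, -5, -4, -3, -2], ![-1, -1, -1, -1, 0, 0, 0, 0], ![0, 0, 0, 0, 0, 0, 0, 1],
   ![0, 0, 0, 0, 0, 0, 1, 0], ![0, 0, 0, 0, 0, 1, 0, 0], ![0, 0, 0, 1, 0, 0, 0, 0],
   ![0, 0, 1, 0, 0, 0, 0, 0], ![0, 1, 0, 0, 0, 0, 0, 0], ![1, 0, 0, 0, 0, 0, 0, 0],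
   ![2, 3, 4, 6, 5, 3, 2, 1]]

/-- the roots with the values `1, 0` -/
def K2 : List (Fin 8 → ℤ) :=
  [![-2, -3, -4, -5, -4, -3, -2, -1], ![-1, -2, -2, -4, -4, -3, -2, -1], ![0, 0, 0, 0, 1, 0, 0, 0],
   ![0, 0, 1, 1, 1, 1, 1, 1], ![0, 1, 0, 1, 1, 1, 1, 1], ![0, 1, 1, 1, 1, 1, 1, 0],
   ![0, 1, 1, 2, 1, 1, 0, 0], ![1, 0, 1, 1, 1, 1, 1, 0], ![1, 1, 1, 1, 1, 1, 0, 0],
   ![1, 1, 1, 2, 1, 0, 0, 0]]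

/-- the pointwise stabiliser -/
def Gm : Fin 5 → Matrix (Fin 8) (Fin 8) ℤ :=
  ![!![1, 0, 0, 0, 0, 0, 0, 0; 0, 1, 0, 0, 0, 0, 0, 0; 0, 0, 1, 0, 0, 0, 0, 0; 0, 0, 0, 1, 0, 0, 0, 0;
      0, 0, 0, 0, 1, 0, 0, 0; 0, 0, 0, 0, 0, 1, 0, 0; 0, 0, 0, 0, 0, 0, 1, 0; 0, 0, 0, 0, 0, 0, 0, 1],
    !![-1, -1, -1, -1, 0, 0, 0, 0; 0, 0, 0, 1, 0, 0, 0, 0; 1, 0, 0, 0, 0, 0, 0, 0; 0, 0, 1, 0, 0, 0, 0, 0;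
      0, 1, 0, 1, 1, 1, 1, 1; -2, -3, -4, -6, -5, -4, -3, -2; 2, 3, 4, 6, 5, 3, 2, 1; 0, 0, 0, 0, 0, 1, 0, 0],
    !![0, 1, 0, 0, 0, 0, 0, 0; 0, 0, 1, 0, 0, 0, 0, 0; -1, -1, -1, -1, 0, 0, 0, 0; 1, 0, 0, 0, 0, 0, 0, 0;
      0, 1, 1, 2, 1, 1, 0, 0; 0, 0, 0, 0, 0, 0, 1, 0; 0, 0, 0, 0, 0, 0, 0, 1; -2, -3, -4, -6, -5, -4, -3, -2],
    !![0, 0, 0, 1, 0, 0, 0, 0; 1, 0, 0, 0, 0, 0, 0, 0; 0, 1, 0, 0, 0, 0, 0, 0; -1, -1, -1, -1, 0, 0, 0, 0;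
      -1, -2, -2, -4, -4, -3, -2, -1; 2, 3, 4, 6, 5, 3, 2, 1; 0, 0, 0, 0, 0, 1, 0, 0; 0, 0, 0, 0, 0, 0, 1, 0],
    !![0, 0, 1, 0, 0, 0, 0, 0; -1, -1, -1, -1, 0, 0, 0, 0; 0, 0, 0, 1, 0, 0, 0, 0; 0, 1, 0, 0, 0, 0, 0, 0;
      1, 0, 1, 1, 1, 1, 1, 0; 0, 0, 0, 0, 0, 0, 0, 1; -2, -3, -4, -6, -5, -4, -3, -2; 2, 3, 4, 6, 5, 3, 2, 1]]

/-- the scalar `2` -/
def Jm : Matrix (Fin 8) (Fin 8) ℤ :=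
  !![-2, -3, -4, -6, -5, -4, -3, -1; 0, 0, 0, 0, 0, 0, 1, 1; 0, 0, 0, 0, 0, 1, 1, 0; 0, 0, 0, 0, 0, -1, -1, -1;
      1, 1, 2, 2, 2, 2, 1, 1; 0, 1, 0, 1, 0, 0, 0, 0; 0, -1, -1, -1, 0, 0, 0, 0; 0, 0, 1, 1, 0, 0, 0, 0]

/-- the certificates for the fixed spaces -/
def Pm : Fin 5 → Matrix (Fin 8) (Fin 8) ℤ :=
  ![0,
    !![0, 0, 0, 0, 0, 0, 0, 0; 2, 2, 3, 0, 0, 0, 0, 0; 0, 0, 4, 0, 0, 0, 0, 0; 2, 3, 3, 0, 0, 0, 0, 0;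
      0, 0, 0, 0, 0, 0, 0, 0; 3, 3, 4, 0, 2, 0, 3, 0; 1, 2, 2, 0, 2, 4, 1, 0; 2, 0, 3, 0, 2, 1, 1, 0],
    !![0, 0, 0, 0, 0, 0, 0, 0; 1, 0, 0, 0, 0, 0, 0, 0; 1, 1, 0, 0, 0, 0, 0, 0; 2, 3, 4, 0, 0, 0, 0, 0;
      0, 0, 0, 0, 0, 0, 0, 0; 4, 3, 2, 0, 1, 0, 0, 0; 4, 3, 2, 0, 1, 1, 0, 0; 4, 3, 2, 0, 1, 1, 1, 0],
    !![0, 0, 0, 0, 0, 0, 0, 0; 0, 4, 0, 0, 0, 0, 0, 0; 0, 4, 4, 0, 0, 0, 0, 0; 1, 0, 0, 0, 0, 0, 0, 0;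
      0, 0, 0, 0, 0, 0, 0, 0; 2, 2, 3, 0, 4, 4, 0, 0; 2, 2, 3, 0, 4, 4, 4, 0; 1, 4, 2, 0, 4, 0, 2, 0],
    !![0, 0, 0, 0, 0, 0, 0, 0; 4, 2, 2, 0, 0, 0, 0, 0; 1, 0, 0, 0, 0, 0, 0, 0; 1, 0, 1, 0, 0, 0, 0, 0;
      0, 0, 0, 0, 0, 0, 0, 0; 3, 2, 1, 0, 3, 4, 2, 0; 0, 3, 3, 0, 3, 1, 3, 0; 3, 2, 1, 0, 3, 0, 2, 0]]

/-- further eigenvectors -/
def vv : Fin 5 → Fin 8 → ZMod 5 :=
  ![![3, 2, 0, 3, 2, 0, 0, 4], ![2, 3, 3, 0, 2, 0, 0, 4], ![2, 0, 2, 3, 0, 0, 0, 4], ![3, 3, 2, 2, 3, 0, 0, 4],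
    ![0, 2, 3, 2, 3, 0, 0, 4]]

theorem reg : ∀ s < 240, ¬ (vl (vec chevE8 8 s) u0 = 0 ∧ vl (vec chevE8 8 s) x0 = 0) := by decide +kernel

theorem cls : ∀ s < 240, (vl (vec chevE8 8 s) u0 = 0 → vl (vec chevE8 8 s) x0 = 1 → vec chevE8 8 s ∈ K1) ∧
    (vl (vec chevE8 8 s) u0 = 1 → vl (vec chevE8 8 s) x0 = 0 → vec chevE8 8 s ∈ K2) := by decide +kernel

theorem srch : ∀ r0 ∈ K1, ∀ r1 ∈ K1, (ip r1 r0 = 0) →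
    ∀ r2 ∈ K1, (ip r2 r1 = 0 ∧ ip r2 r0 = -1) →
    ∀ r3 ∈ K1, (ip r3 r2 = -1 ∧ ip r3 r1 = -1 ∧ ip r3 r0 = 0) →
    ∀ r4 ∈ K2, (ip r4 r3 = -1 ∧ ip r4 r2 = 0 ∧ ip r4 r1 = 0 ∧ ip r4 r0 = 0) →
    ∀ r5 ∈ K1, (ip r5 r4 = -1 ∧ ip r5 r3 = 0 ∧ ip r5 r2 = 0 ∧ ip r5 r1 = 0 ∧ ip r5 r0 = 0) →
    ∀ r6 ∈ K1, (ip r6 r5 = -1 ∧ ip r6 r4 = 0 ∧ ip r6 r3 = 0 ∧ ip r6 r2 = 0 ∧ ip r6 r1 = 0 ∧ ip r6 r0 = 0) →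
    ∀ r7 ∈ K1, (ip r7 r6 = -1 ∧ ip r7 r5 = 0 ∧ ip r7 r4 = 0 ∧ ip r7 r3 = 0 ∧ ip r7 r2 = 0 ∧ ip r7 r1 = 0 ∧ ip r7 r0 = 0) →
    ∃ i, Gm i = Matrix.of ![r0, r1, r2, r3, r4, r5, r6, r7] := by decide +kernel

theorem sM_Cm : ∀ i, sM chevE8 8 i * Cm * (sM chevE8 8 i)ᵀ = Cm := by decide +kernel

theorem law : ∀ i j, Gm i * Gm j = Gm (i + j) := by decide +kernel

theorem Gm_zero : Gm 0 = 1 := by decide +kernel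

theorem Gm_sum : ∀ i, i ≠ 0 → 1 + Gm i + Gm (i + i) + Gm (i + i + i) + Gm (i + i + i + i) = 0 := by decide +kernel

theorem cert : ∀ i, i ≠ 0 → (Pm i * (Gm i - 1)).map (Int.cast : ℤ → ZMod 5) =
    1 - vecMulVec u0 (Pi.single 4 1) - vecMulVec x0 (Pi.single 0 1) := by decide +kernel

theorem Jm_sq : Jm * Jm = -1 := by decide +kernel

theorem Jm_eig : mv Jm u0 = (2 : ZMod 5) • u0 ∧ mv Jm x0 = (2 : ZMod 5) • x0 := by decide +kernel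

theorem Jm_wm : WM chevE8 8 Jm :=
  ⟨[0, 2, 3, 1, 2, 0, 3, 4, 3, 2, 0, 5, 4, 3, 1, 2, 3, 4, 5, 6, 5, 4, 3, 1, 2, 0, 3, 2, 4, 3, 5, 4, 6, 5, 7, 6, 5, 4, 3, 1,
    2, 0, 3, 2, 4, 3, 1, 5, 4, 3, 2, 6, 5, 4, 3, 1, 7, 6, 5, 4], (prod_eq_of isRows_E8 _ (by decide +kernel)).symm⟩

theorem vv_eig : ∀ i, (3 : ZMod 5) • mv (Gm i) (mv Jm (vv i)) = vv i ∧ vv i ≠ 0 ∧ 40 < nz chevE8 (vv i) := by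
  decide +kernel

theorem nz_u0 : nz chevE8 u0 = 40 := by decide +kernel

theorem nz_cor : ∀ i, 40 < nz chevE8 (Pl.cz 5 (cartanOf chevE8 8 i)) := by decide +kernel

theorem u0_ne : u0 ≠ 0 := by decide

theorem ip_eq (a b : Fin 8 → ℤ) : (a ᵥ* Cm) ⬝ᵥ b = ip a b := by
  simp only [vecMul, dotProduct, Fin.sum_univ_eight, Cm, ip, of_apply, cons_val]
  ring

theorem gram {W : Matrix (Fin 8) (Fin 8) ℤ} (hW : WM chevE8 8 W) : W * Cm * Wᵀ = Cm :=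
  Pl.WM.ind (P := fun W => W * Cm * Wᵀ = Cm) (by rw [transpose_one, one_mul, mul_one]) (fun i W _ h => by
    conv_rhs => rw [← sM_Cm i, ← h]
    simp only [transpose_mul, mul_assoc]) hW

/-- the pointwise stabiliser of the plane -/
theorem stab {W : Matrix (Fin 8) (Fin 8) ℤ} (hW : WM chevE8 8 W) (h1 : mv W u0 = u0) (h2 : mv W x0 = x0) :
    ∃ i, Gm i = W := by
  have g : ∀ i j, ip (W i) (W j) = Cm i j := fun i j => (ip_eq _ _).symm.trans (congrFun (congrFun (gram hW) i) j)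
  have r : ∀ i, ∃ s < 240, vec chevE8 8 s = W i := fun i => by
    obtain ⟨w, rfl⟩ := (wM_iff hpE8).1 hW
    have h := rt_wm hpE8 (rt_sr hpE8 i) w
    rwa [sr, single_one_vecMul] at h
  have k1 : ∀ i, u0 i = 0 → x0 i = 1 → W i ∈ K1 := fun i a b => by
    obtain ⟨s, hs, e⟩ := r i
    exact e ▸ (cls s hs).1 (e ▸ (congrFun h1 i).trans a) (e ▸ (congrFun h2 i).trans b)
  have k2 : ∀ i, u0 i = 1 → x0 i = 0 → W i ∈ K2 := fun i a b => by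
    obtain ⟨s, hs, e⟩ := r i
    exact e ▸ (cls s hs).2 (e ▸ (congrFun h1 i).trans a) (e ▸ (congrFun h2 i).trans b)
  obtain ⟨i, h⟩ := srch _ (k1 0 rfl rfl) _ (k1 1 rfl rfl) (g 1 0)
    _ (k1 2 rfl rfl) ⟨g 2 1, g 2 0⟩
    _ (k1 3 rfl rfl) ⟨g 3 2, g 3 1, g 3 0⟩
    _ (k2 4 rfl rfl) ⟨g 4 3, g 4 2, g 4 1, g 4 0⟩
    _ (k1 5 rfl rfl) ⟨g 5 4, g 5 3, g 5 2, g 5 1, g 5 0⟩
    _ (k1 6 rfl rfl) ⟨g 6 5, g 6 4, g 6 3, g 6 2, g 6 1, g 6 0⟩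
    _ (k1 7 rfl rfl) ⟨g 7 6, g 7 5, g 7 4, g 7 3, g 7 2, g 7 1, g 7 0⟩
   
  refine ⟨i, h.trans (funext fun a => ?_)⟩
  fin_cases a <;> rfl

theorem ph_Gm {i : Fin 5} (h : i ≠ 0) : Ph (Gm i) = 0 := by
  rw [Ph, pow_succ _ 3, pow_succ _ 2, pow_two, law, law, law, Gm_sum i h]

theorem mem_of_fix {i : Fin 5} (h : i ≠ 0) {v : Fin 8 → ZMod 5} (hv : mv (Gm i) v = v) :
    v ∈ Submodule.span (ZMod 5) {u0, x0} := by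
  have h1 : mv (Gm i - 1) v = 0 := by
    have h2 := hv
    rw [mv] at h2 ⊢
    rw [Matrix.map_sub _ Int.cast_sub, Matrix.map_one _ Int.cast_zero Int.cast_one, sub_mulVec, one_mulVec, h2, sub_self]
  have h2 := mv_mul (Pm i) (Gm i - 1) v
  rw [h1, Pl.mv_zero, mv, cert i h, sub_mulVec, sub_mulVec, one_mulVec, vecMulVec_mulVec, vecMulVec_mulVec, sub_sub,
    sub_eq_zero] at h2
  exact Submodule.mem_span_pair.2 ⟨Pi.single 4 1 ⬝ᵥ v, Pi.single 0 1 ⬝ᵥ v, by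
    rw [op_smul_eq_smul, op_smul_eq_smul] at h2
    exact h2.symm⟩

/-- **the scalars on the plane** -/
theorem dich {W : Matrix (Fin 8) (Fin 8) ℤ} (hW : WM chevE8 8 W) {c : ZMod 5} (h1 : c • mv W u0 = u0)
    (h2 : c • mv W x0 = x0) :
    (∃ ε : ℤ, (ε = 1 ∨ ε = -1) ∧ (ε : ZMod 5) * c = 1 ∧ Ph (ε • W) = 0 ∧
      ∀ v : Fin 8 → ZMod 5, c • mv W v = v → v ∈ Submodule.span (ZMod 5) {u0, x0}) ∨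
      ∃ v : Fin 8 → ZMod 5, c • mv W v = v ∧ v ≠ 0 ∧ 40 < nz chevE8 v := by
  have h0 : c ≠ 0 := fun e => u0_ne (h1.symm.trans (by rw [e, zero_smul]))
  obtain ⟨ε, hε, hc⟩ : ∃ ε : ℤ, (ε = 1 ∨ ε = -1) ∧ (c = ε ∨ c = 2 * ε) := by
    have h : ∀ c : ZMod 5, c ≠ 0 → (c = (1 : ℤ) ∨ c = 2 * (1 : ℤ)) ∨ (c = (-1 : ℤ) ∨ c = 2 * (-1 : ℤ)) := by decide
    exact (h c h0).elim (fun h => ⟨1, Or.inl rfl, h⟩) fun h => ⟨-1, Or.inr rfl, h⟩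
  have h3 : WM chevE8 8 (ε • W) := by
    rcases hε with rfl | rfl
    · rwa [one_smul]
    · rw [neg_one_smul, ← neg_one_mul]
      exact WM.mul ⟨_, neg_E8.symm⟩ hW
  rcases hc with rfl | rfl
  · obtain ⟨i, h⟩ := stab h3 (by rw [smul_mv, h1]) (by rw [smul_mv, h2])
    simp only [← smul_mv, ← h]
    by_cases h4 : i = 0
    · exact Or.inr ⟨vv 0, by rw [h4, Gm_zero, mv_one], (vv_eig 0).2⟩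
    · exact Or.inl ⟨ε, hε, by rcases hε with rfl | rfl <;> rfl, h ▸ ph_Gm h4, fun v => mem_of_fix h4⟩
  · obtain ⟨i, h⟩ := stab (h3.mul Jm_wm) (by rw [mv_mul, Jm_eig.1, mv_smul, smul_mv, smul_smul, h1])
      (by rw [mv_mul, Jm_eig.2, mv_smul, smul_mv, smul_smul, h2])
    refine Or.inr ⟨vv i, ?_, (vv_eig i).2⟩
    conv_rhs => rw [← (vv_eig i).1, h, ← mv_mul, mul_assoc, Jm_sq, mul_neg_one, ← neg_smul, smul_mv, smul_smul]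
    congr 1
    rw [Int.cast_neg, mul_neg, ← neg_mul]
    rfl

end Cfsg.Agent.TO.X5E
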